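import Groth.Agent.EtpbcA.RpushTors
import Groth.Agent.Etcore.Torsion

/-!
# Relative cohomological dimension from the cohomological dimension of étale `X`-schemes

`relCohDimLE_of_bc`: `cd(f) ≤ d` if `cd(V ×_Y X) ≤ d` for all affine étale `V → Y`.  (Same as
`EtpbcA.CdRelLocal.relCohDimLE_of_bc`, with a small import closure.)
-/

set_option autoImplicit false
universe u

open CategoryTheory CategoryTheory.Limits AlgebraicGeometry Opposite

namespace Groth.Agent.Etdl.H997.RelCd

open Groth.Agent.Etbase Groth.Agent.EtpbcA.SectCoh Groth.Agent.EtpbcA.RpushTors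

variable {X Y : Scheme.{u}}

theorem isZero_of_forall_sect (F : EtCoh.Ab Y) (h : ∀ (U : Y.Etale) (s : EtCoh.sect F U), s = 0) :
    IsZero F := by
  rw [IsZero.iff_id_eq_zero]
  refine Sheaf.hom_ext (NatTrans.ext (funext fun U => ?_))
  refine AddCommGrpCat.hom_ext (AddMonoidHom.ext fun s => ?_)
  exact (h U.unop s)

/-- Criterion for the vanishing of a homology sheaf. -/
theorem isZero_homology (K : CochainComplex (EtCoh.Ab Y) ℕ) (n : ℕ)
    (h : ∀ V : Y.Etale, IsAffine V.left → ∀ z : EtCoh.sect (K.X (n + 1)) V,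
      (K.d (n + 1) (n + 1 + 1)).hom.app (op V) z = 0 → ∃ y : EtCoh.sect (K.X n) V,
        (K.d n (n + 1)).hom.app (op V) y = z) :
    IsZero (K.homology (n + 1)) := by
  refine isZero_of_forall_sect _ fun U s => ?_
  apply EtSections.eq_zero_of_vanishesAt _ U
  intro x
  obtain ⟨V, g, v, hV, hv, t, ht⟩ := exists_cycle_section K (n + 1) U s x
  refine ⟨V, g, v, hv, ?_⟩
  obtain ⟨y, hy⟩ := h V hV ((K.iCycles (n + 1)).hom.app (op V) t) (iCycles_d_app K (n + 1) V t)
  exact ht.symm.trans (homologyπ_eq_zero K n V t y hy)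

/-- Criterion for `R^{n+1} f_* F = 0`. -/
theorem isZero_Rpush_succ (f : X ⟶ Y) (F : EtCoh.Ab X) (n : ℕ)
    (h : ∀ V : Y.Etale, IsAffine V.left → Subsingleton
      (EtCoh.H ((EtCoh.bc f).obj V).left ((EtCoh.pull ((EtCoh.bc f).obj V).hom).obj F) (n + 1))) :
    IsZero ((EtCoh.Rpush f (n + 1)).obj F) := by
  let I : InjectiveResolution F := injectiveResolution F
  have key : IsZero
      ((((EtCoh.push f).mapHomologicalComplex (ComplexShape.up ℕ)).obj I.cocomplex).homology (n + 1)) :=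
    isZero_homology _ n (fun V hV z hz => by
      have h1 : cls I ((EtCoh.bc f).obj V) (n + 1) ⟨z, hz⟩ = 0 :=
        @Subsingleton.elim _ (h V hV) _ _
      exact (cls_eq_zero_iff I ((EtCoh.bc f).obj V) ⟨z, hz⟩).1 h1)
  exact key.of_iso (I.isoRightDerivedObj (EtCoh.push f) (n + 1))

/-- `cd(f) ≤ d` if `cd(V ×_Y X) ≤ d` for all affine étale `V → Y`. -/
theorem relCohDimLE_of_bc (f : X ⟶ Y) (d : ℕ)
    (h : ∀ V : Y.Etale, IsAffine V.left → EtCoh.CohDimLE ((EtCoh.bc f).obj V).left d) :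
    EtCoh.RelCohDimLE f d := by
  intro F hF q hq
  obtain ⟨n, rfl⟩ : ∃ n, q = n + 1 := ⟨q - 1, by omega⟩
  exact isZero_Rpush_succ f F n fun V hV =>
    h V hV _ (Groth.Agent.Etcore.Torsion.isTorsion_pull _ F hF) (n + 1) hq

end Groth.Agent.Etdl.H997.RelCd
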