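import Groth.Agent.Etbc.H209.Induct
import Groth.Agent.S0125
import Groth.Agent.EtpbcB.TorsionBasic
import Groth.Agent.Etcore.Torsion

/-!
# Vanishing of the cohomology of torsion sheaves from a dimension function

`induct`: `X` Noetherian, `φ : X → ℕ` strictly decreasing under proper specializations, `cd(κ(x)) ≤ φ(x)`, and
`φ(y) + q < φ(x)` for `y` in the support of `R^q i_{x*} G`, `q ≥ 1`, `G` a torsion sheaf on
`Spec κ(x)`.  Then a torsion `F` with `φ < m` on its support has `H^n(X, F) = 0` for `n ≥ m`.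
-/

set_option autoImplicit false
universe u

open CategoryTheory CategoryTheory.Limits AlgebraicGeometry Opposite TopologicalSpace

namespace Groth.Agent.Etdl.H997.FCDInd

open Groth.Agent.CurvesA Groth.Agent.CurvesA.SubSheafEt Groth.Agent.Etbase.EtSections
  Groth.Agent.EtpbcA.Artin Groth.Agent.CurvesA.Punctual Groth.Agent.EtpbcA
  Groth.Agent.EtpbcA.SuppFilt Groth.Agent.Etbc.H209.PrimFilt Groth.Agent.Etbc.H209

variable {X : Scheme.{u}}

section main

variable [IsNoetherian X] (φ : X → ℕ) (hφ : ∀ x y : X, x ⤳ y → x ≠ y → φ y < φ x)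
  (h1 : ∀ x : X, EtCoh.CohDimLE (Spec (X.residueField x)) (φ x))
  (hB : ∀ (x : X) (G : EtCoh.Ab (Spec (X.residueField x))), EtCoh.IsTorsion G →
    ∀ q : ℕ, ∀ y ∈ EtPBC.supp ((EtCoh.Rpush (X.fromSpecResidueField x) (q + 1)).obj G),
      φ y + (q + 1) < φ x)

omit [AlgebraicGeometry.IsNoetherian X] in
include h1 hB in
/-- Vanishing for the sheaves `i_{x*} G`. -/
theorem van_push (m : ℕ)
    (ih : ∀ k, k ≤ m → ∀ F : EtCoh.Ab X, EtCoh.IsTorsion F →
      (∀ x ∈ EtPBC.supp F, φ x < k) → ∀ n, k ≤ n → Subsingleton (EtCoh.H X F n))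
    (x : X) (hx : φ x ≤ m) (G : EtCoh.Ab (Spec (X.residueField x)))
    (hG : EtCoh.IsTorsion G) (n : ℕ) (hn : m + 1 ≤ n) :
    Subsingleton (EtCoh.H X ((EtCoh.push (X.fromSpecResidueField x)).obj G) n) := by
  obtain ⟨n, rfl⟩ : ∃ k, n = k + 1 := ⟨n - 1, by omega⟩
  refine CdEtLeray.H_push_subsingleton_of_reverse _ G n (h1 x G hG _ (by omega)) fun p q hpq => ?_
  refine ih (m - (q + 1)) (by omega) _ (Groth.Agent.S0125.result _ G hG (q + 1)) (fun y hy => ?_) p
    (by omega)
  have := hB x G hG q y hy
  omega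

include hφ h1 hB in
/-- Vanishing for sheaves with finitely many points of the support where `φ = m`. -/
theorem van_finite (m : ℕ)
    (ih : ∀ k, k ≤ m → ∀ F : EtCoh.Ab X, EtCoh.IsTorsion F →
      (∀ x ∈ EtPBC.supp F, φ x < k) → ∀ n, k ≤ n → Subsingleton (EtCoh.H X F n))
    (T : Finset X) : ∀ F : EtCoh.Ab X, EtCoh.IsTorsion F →
      (∀ x ∈ EtPBC.supp F, φ x < m + 1) → (∀ x ∈ EtPBC.supp F, φ x = m → x ∈ T) →
      ∀ n, m + 1 ≤ n → Subsingleton (EtCoh.H X F n) := by
  classical
  induction T using Finset.induction_on with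
  | empty =>
    intro F hF hs hT n hn
    refine ih m le_rfl F hF (fun x hx => ?_) n (by omega)
    have h2 := hs x hx
    have h3 : φ x ≠ m := fun h => (Finset.notMem_empty x) (hT x hx h)
    omega
  | insert x T hxT ihT =>
    intro F hF hs hT n hn
    by_cases hx : x ∈ EtPBC.supp F ∧ φ x = m
    · obtain ⟨hxF, hxm⟩ := hx
      obtain ⟨n, rfl⟩ : ∃ k, n = k + 1 := ⟨n - 1, by omega⟩
      let i := X.fromSpecResidueField x
      let u := (EtCoh.pullPushAdj i).unit.app F
      have hxr : x ∈ Set.range i := by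
        rw [X.range_fromSpecResidueField x]
        rfl
      have hG : EtCoh.IsTorsion ((EtCoh.pull i).obj F) := Groth.Agent.Etcore.Torsion.isTorsion_pull i F hF
      refine Induct.van_of_ker_coker u n ?_ (van_push φ h1 hB m ih x hxm.le _ hG (n + 1) hn) ?_
      · have hsub : EtPBC.supp (kernel u) ⊆ EtPBC.supp F := SuppCons.supp_subset_of_mono (kernel.ι u)
        refine ihT _ (Groth.Agent.EtpbcB.TorsionBasic.isTorsion_of_mono (kernel.ι u) hF)
          (fun y hy => hs y (hsub hy)) (fun y hy hym => ?_) (n + 1) hn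
        have h2 := hT y (hsub hy) hym
        rw [Finset.mem_insert] at h2
        refine h2.resolve_left fun h3 => ?_
        subst h3
        exact UnitPt.not_mem_supp_kernel i F hxr hy
      · refine ih m le_rfl _ (Groth.Agent.EtpbcB.TorsionBasic.isTorsion_of_epi (cokernel.π u)
          (RpushTors.isTorsion_push i _ hG)) (fun y hy => ?_) n (by omega)
        have h2 : y ∈ closure (Set.range i) :=
          supp_push_subset i _ (SuppClosed.supp_of_epi (cokernel.π u) hy)
        rw [X.range_fromSpecResidueField x, ← specializes_iff_mem_closure] at h2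
        have h3 : x ≠ y := fun h => UnitPt.not_mem_supp_cokernel i F (y := y) (h ▸ hxr) hy
        rw [← hxm]
        exact hφ x y h2 h3
    · refine ihT F hF hs (fun y hy hym => ?_) n hn
      have h2 := hT y hy hym
      rw [Finset.mem_insert] at h2
      exact h2.resolve_left fun h3 => hx ⟨h3 ▸ hy, h3 ▸ hym⟩

include hφ h1 hB in
theorem induct (m : ℕ) : ∀ F : EtCoh.Ab X, EtCoh.IsTorsion F →
    (∀ x ∈ EtPBC.supp F, φ x < m) → ∀ n, m ≤ n → Subsingleton (EtCoh.H X F n) := by
  induction m using Nat.strong_induction_on with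
  | _ m ih =>
    cases m with
    | zero =>
      intro F _ hs n _
      have h0 : IsZero F := isZero_of_forall F fun x hx => by
        have := hs x hx
        omega
      exact CdEtLeray.H_subsingleton_of_isZero h0 n
    | succ m =>
      intro F hF hs n hn
      refine van_of_supp_stable' {x | φ x < m + 1} n (fun x y hxy hx => ?_) F hs ?_
      · by_cases h : x = y
        · exact h ▸ hx
        · exact (hφ x y hxy h).trans hx
      · intro Z hZ hZE
        have hfin := Induct.finite_max φ hφ m Z hZ (fun x hx => Nat.lt_succ_iff.1 (hZE hx))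
        have hsub := supp_sub F Z
        refine van_finite φ hφ h1 hB m (fun k hk => ih k (by omega)) hfin.toFinset _
          (Groth.Agent.EtpbcB.TorsionBasic.isTorsion_of_mono (ι (suppData F Z)) hF) (fun x hx => hs x (hsub hx).2)
          (fun x hx hxm => ?_) n hn
        rw [Set.Finite.mem_toFinset]
        exact ⟨(hsub hx).1, hxm⟩

end main

end Groth.Agent.Etdl.H997.FCDInd
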